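import Mathlib
import Groth.Agent.Lib.Helper24.ClosedDim.Top

/-!
# Chains of points and the topological Krull dimension (helper24)

Versions for an arbitrary topological space `Z` (to be applied to subspaces).
-/

set_option autoImplicit false

namespace Groth.Agent.Lib.Helper24.LocalDim

open TopologicalSpace Groth.Agent.Lib.Helper24.ClosedDim

variable {Z : Type*} [TopologicalSpace Z]

/-- A strictly specializing chain of points `c 0 ⤳ c 1 ⤳ ⋯ ⤳ c m` gives `m ≤ dim Z`. -/
theorem le_dim_of_specializing_chain {m : ℕ} (c : Fin (m + 1) → Z)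
    (h : ∀ i : Fin m, c i.castSucc ⤳ c i.succ ∧ ¬ c i.succ ⤳ c i.castSucc) :
    (m : WithBot ℕ∞) ≤ topologicalKrullDim Z := by
  let g : Fin (m + 1) → IrreducibleCloseds Z := fun i => ptClosure (c i.rev)
  have hg : StrictMono g := by
    rw [Fin.strictMono_iff_lt_succ]
    intro i
    show ptClosure (c i.castSucc.rev) < ptClosure (c i.succ.rev)
    rw [Fin.rev_castSucc, Fin.rev_succ]
    obtain ⟨h1, h2⟩ := h i.rev
    rw [lt_iff_le_not_ge]
    constructor
    · rw [ptClosure_le_iff]
      exact specializes_iff_mem_closure.mp h1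
    · intro hge
      rw [ptClosure_le_iff] at hge
      exact h2 (specializes_iff_mem_closure.mpr hge)
  exact Order.LTSeries.length_le_krullDim (LTSeries.mk m g hg)

/-- If all strictly specializing chains of points have length at most `n`, then `dim Z ≤ n`. -/
theorem dim_le_of_specializing_chains [QuasiSober Z] (n : WithBot ℕ∞)
    (h : ∀ (m : ℕ) (c : Fin (m + 1) → Z),
      (∀ i : Fin m, c i.castSucc ⤳ c i.succ ∧ ¬ c i.succ ⤳ c i.castSucc) →
        (m : WithBot ℕ∞) ≤ n) :
    topologicalKrullDim Z ≤ n := by
  unfold topologicalKrullDim Order.krullDim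
  apply iSup_le
  intro p
  let g : Fin (p.length + 1) → Z := fun i => (p i.rev).isIrreducible.genericPoint
  have hg : ∀ i, IsGenericPoint (g i) ((p i.rev : IrreducibleCloseds Z) : Set Z) := fun i =>
    (p i.rev).isIrreducible.isGenericPoint_genericPoint (p i.rev).isClosed
  refine h p.length g ?_
  intro i
  have hlt : p i.succ.rev < p i.castSucc.rev := by
    apply p.strictMono
    rw [Fin.rev_lt_rev]
    exact Fin.castSucc_lt_succ
  have hle : ((p i.succ.rev : IrreducibleCloseds Z) : Set Z) ⊆
      ((p i.castSucc.rev : IrreducibleCloseds Z) : Set Z) := hlt.le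
  constructor
  · apply (hg i.castSucc).specializes
    apply hle
    exact (hg i.succ).mem
  · intro hsp
    apply hlt.not_ge
    show ((p i.castSucc.rev : IrreducibleCloseds Z) : Set Z) ⊆
      ((p i.succ.rev : IrreducibleCloseds Z) : Set Z)
    rw [← (hg i.succ).def, ← (hg i.castSucc).def]
    exact hsp.closure_subset

end Groth.Agent.Lib.Helper24.LocalDim
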