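import Mathlib
import Groth.Agent.Lib.Helper24.LocalDim.Top
import Groth.Agent.Lib.Helper7.LocQuotDim
import Groth.Prelude.Def_Flat

/-!
# Local dimension of the spectrum of a finite type algebra over a field (helper24)

`localDim (Spec A) P = ht P + dim A/P`.
-/

set_option autoImplicit false
set_option linter.style.haveILetI false
universe u

namespace Groth.Agent.Lib.Helper24.LocalDim

open TopologicalSpace Groth.Agent.Lib.Helper7

variable (k : Type u) [Field k] (A : Type u) [CommRing A] [Algebra k A] [Algebra.FiniteType k A]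

/-- An element outside `p` lying in all minimal primes not contained in `p`. -/
theorem exists_avoiding [IsNoetherianRing A] (p : Ideal A) [hp : p.IsPrime] :
    ∃ g : A, g ∉ p ∧ ∀ Q ∈ minimalPrimes A, ¬ Q ≤ p → g ∈ Q := by
  classical
  have hfin : (minimalPrimes A).Finite := minimalPrimes.finite_of_isNoetherianRing A
  let F : Finset (Ideal A) := hfin.toFinset.filter (fun Q => ¬ Q ≤ p)
  have hnot : ¬ F.inf id ≤ p := by
    intro hle
    obtain ⟨Q, hQF, hQp⟩ := (Ideal.IsPrime.inf_le' hp).mp hle
    rw [Finset.mem_filter] at hQF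
    exact hQF.2 hQp
  obtain ⟨g, hgI, hgp⟩ := SetLike.not_le_iff_exists.mp hnot
  refine ⟨g, hgp, fun Q hQ hQp => ?_⟩
  have hQF : Q ∈ F := by
    rw [Finset.mem_filter]
    exact ⟨hfin.mem_toFinset.mpr hQ, hQp⟩
  exact (Finset.inf_le hQF : F.inf id ≤ id Q) hgI

include k in
/-- `dim A/Q ≤ ht P + dim A/P` for primes `Q ≤ P`. -/
theorem coheight_le_height_add_coheight (Q P : PrimeSpectrum A) (hQP : Q ≤ P) :
    Order.coheight Q ≤ Order.height P + Order.coheight P := by
  haveI := P.isPrime
  haveI := Q.isPrime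
  have h := LocQuotDim.dim_localization_quotient_add (k := k) A (Localization.AtPrime P.asIdeal)
    P.asIdeal Q.asIdeal hQP
  have h1 : ringKrullDim (Localization.AtPrime P.asIdeal ⧸
      Q.asIdeal.map (algebraMap A (Localization.AtPrime P.asIdeal))) ≤
      ringKrullDim (Localization.AtPrime P.asIdeal) :=
    ringKrullDim_le_of_surjective _ Ideal.Quotient.mk_surjective
  rw [IsLocalization.AtPrime.ringKrullDim_eq_height P.asIdeal (Localization.AtPrime P.asIdeal),
    PrimeSpectrum.height_eq_orderHeight] at h1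
  rw [AffChain.ringKrullDim_quotient_eq_coheight, AffChain.ringKrullDim_quotient_eq_coheight] at h
  have h2 : ((Order.coheight Q : ℕ∞) : WithBot ℕ∞) ≤
      ((Order.height P : ℕ∞) : WithBot ℕ∞) + ((Order.coheight P : ℕ∞) : WithBot ℕ∞) := by
    rw [← h]
    exact add_le_add_left h1 _
  exact_mod_cast h2

include k in
/-- Every open neighbourhood of `P` has dimension at least `ht P + dim A/P`. -/
theorem le_dim_open (P : PrimeSpectrum A) (U : Opens (PrimeSpectrum A)) (hP : P ∈ U) :
    ((Order.height P + Order.coheight P : ℕ∞) : WithBot ℕ∞) ≤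
      topologicalKrullDim ↥(U : Set (PrimeSpectrum A)) := by
  obtain ⟨q, hqP, -, hq⟩ := AffDim.exists_isMin_coheight_eq (k := k) A P
  have hqU : q ∈ U := ((PrimeSpectrum.le_iff_specializes q P).mp hqP).mem_open U.isOpen hP
  haveI : IsJacobsonRing A := isJacobsonRing_of_finiteType (A := k)
  obtain ⟨m, ⟨hmU, hmq⟩, hmcl⟩ := nonempty_inter_closedPoints
    (Z := (U : Set (PrimeSpectrum A)) ∩ closure {q}) ⟨q, hqU, subset_closure rfl⟩
    (U.isOpen.isLocallyClosed.inter isClosed_closure.isLocallyClosed)
  have hm : m.asIdeal.IsMaximal := (PrimeSpectrum.isClosed_singleton_iff_isMaximal m).mp hmcl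
  have hqm : q ≤ m := (PrimeSpectrum.le_iff_specializes q m).mpr (specializes_iff_mem_closure.mpr hmq)
  rw [add_comm, ← hq]
  have key : ∀ n : ℕ, (n : ℕ∞) ≤ Order.coheight q →
      (n : WithBot ℕ∞) ≤ topologicalKrullDim ↥(U : Set (PrimeSpectrum A)) := by
    intro n hn
    obtain ⟨c, -, hlast, hlen⟩ := AffChain.exists_ltSeries_of_le_coheight (k := k) A m hm n q hqm hn
    have hcU : ∀ i, c i ∈ U := by
      intro i
      have hle : c i ≤ m := by rw [← hlast]; exact c.strictMono.monotone (Fin.le_last i)
      exact ((PrimeSpectrum.le_iff_specializes _ _).mp hle).mem_open U.isOpen hmU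
    have h1 := le_dim_of_specializing_chain (Z := ↥(U : Set (PrimeSpectrum A)))
      (fun i => ⟨c i, hcU i⟩) (by
        intro i
        have hlt : c i.castSucc < c i.succ := c.step i
        constructor
        · rw [subtype_specializes_iff]
          exact (PrimeSpectrum.le_iff_specializes _ _).mp hlt.le
        · intro hsp
          rw [subtype_specializes_iff] at hsp
          exact hlt.not_ge ((PrimeSpectrum.le_iff_specializes _ _).mpr hsp))
    exact le_trans (by exact_mod_cast hlen) h1
  have h0 := key 0 (by simp)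
  obtain ⟨b, hb⟩ : ∃ b : ℕ∞, topologicalKrullDim ↥(U : Set (PrimeSpectrum A)) = (b : WithBot ℕ∞) := by
    cases hd : topologicalKrullDim ↥(U : Set (PrimeSpectrum A)) with
    | bot => rw [hd] at h0; simp at h0
    | coe b => exact ⟨b, rfl⟩
  rw [hb]
  have : Order.coheight q ≤ b := by
    rw [← ENat.forall_natCast_le_iff_le]
    intro n hn
    have := key n hn
    rw [hb] at this
    exact_mod_cast this
  exact_mod_cast this

include k in
/-- A good basic open neighbourhood has dimension at most `ht P + dim A/P`. -/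
theorem dim_basicOpen_le (P : PrimeSpectrum A) (g : A)
    (hg : ∀ Q ∈ minimalPrimes A, ¬ Q ≤ P.asIdeal → g ∈ Q) :
    topologicalKrullDim ↥((PrimeSpectrum.basicOpen g : Opens (PrimeSpectrum A)) :
      Set (PrimeSpectrum A)) ≤ ((Order.height P + Order.coheight P : ℕ∞) : WithBot ℕ∞) := by
  haveI : QuasiSober ↥((PrimeSpectrum.basicOpen g : Opens (PrimeSpectrum A)) :
      Set (PrimeSpectrum A)) :=
    (PrimeSpectrum.basicOpen g).isOpen.isOpenEmbedding_subtypeVal.quasiSober
  apply dim_le_of_specializing_chains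
  intro m c hc
  have hmono : StrictMono (fun i => (c i).1) := by
    rw [Fin.strictMono_iff_lt_succ]
    intro i
    obtain ⟨h1, h2⟩ := hc i
    rw [subtype_specializes_iff] at h1 h2
    rw [lt_iff_le_not_ge]
    exact ⟨(PrimeSpectrum.le_iff_specializes _ _).mpr h1,
      fun hge => h2 ((PrimeSpectrum.le_iff_specializes _ _).mp hge)⟩
  haveI := (c 0).1.isPrime
  obtain ⟨Q, hQmin, hQle⟩ := Ideal.exists_minimalPrimes_le
    (bot_le : (⊥ : Ideal A) ≤ (c 0).1.asIdeal)
  have hQmin' : Q ∈ minimalPrimes A := hQmin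
  haveI : Q.IsPrime := hQmin.1.1
  have hgQ : g ∉ Q := fun hgQ => (c 0).2 (hQle hgQ)
  have hQP : Q ≤ P.asIdeal := by
    by_contra hne
    exact hgQ (hg Q hQmin' hne)
  have h1 : (m : ℕ∞) ≤ Order.coheight (c 0).1 := by
    have := Order.length_le_coheight_head (p := LTSeries.mk m (fun i => (c i).1) hmono)
    exact this
  have h2 : Order.coheight (c 0).1 ≤ Order.coheight (⟨Q, inferInstance⟩ : PrimeSpectrum A) :=
    Order.coheight_anti (show (⟨Q, inferInstance⟩ : PrimeSpectrum A) ≤ (c 0).1 from hQle)
  have h3 := coheight_le_height_add_coheight k A ⟨Q, inferInstance⟩ P hQP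
  exact_mod_cast (h1.trans h2).trans h3

include k in
/-- The local dimension of `Spec A` at `P` is `ht P + dim A/P`. -/
theorem localDim_eq (P : PrimeSpectrum A) :
    FlatMor.localDim (PrimeSpectrum A) P =
      ((Order.height P + Order.coheight P : ℕ∞) : WithBot ℕ∞) := by
  haveI : IsNoetherianRing A := Algebra.FiniteType.isNoetherianRing k A
  haveI := P.isPrime
  obtain ⟨g, hgP, hg⟩ := exists_avoiding A P.asIdeal
  unfold FlatMor.localDim
  apply le_antisymm
  · exact iInf_le_of_le ⟨PrimeSpectrum.basicOpen g, hgP⟩ (dim_basicOpen_le k A P g hg)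
  · exact le_iInf fun U => le_dim_open k A P U.1 U.2

end Groth.Agent.Lib.Helper24.LocalDim
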