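import Mathlib
import Groth.Agent.Lib.Helper24.LocalDim.Core
import Groth.Agent.Lib.Helper24.CodimPre.Main
import Groth.Agent.Lib.Helper7.ResFieldTrdeg

/-!
# Local dimension of a scheme locally of finite type over a field (helper24)
-/

set_option autoImplicit false
set_option linter.style.haveILetI false
universe u
open AlgebraicGeometry CategoryTheory TopologicalSpace Groth.Agent.Lib.Helper7

namespace Groth.Agent.Lib.Helper24.LocalDim

/-- The local dimension is invariant under open embeddings. -/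
theorem localDim_eq_of_isOpenEmbedding {S T : Type*} [TopologicalSpace S] [TopologicalSpace T]
    (j : S → T) (hj : Topology.IsOpenEmbedding j) (s : S) :
    FlatMor.localDim S s = FlatMor.localDim T (j s) := by
  unfold FlatMor.localDim
  apply le_antisymm
  · refine le_iInf fun V => ?_
    refine iInf_le_of_le ⟨⟨j ⁻¹' (V.1 : Set T), V.1.isOpen.preimage hj.continuous⟩, V.2⟩ ?_
    exact (hj.isEmbedding.isInducing.restrictPreimage (V.1 : Set T)).topologicalKrullDim_le
  · refine le_iInf fun W => ?_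
    refine iInf_le_of_le ⟨⟨j '' (W.1 : Set S), hj.isOpenMap _ W.1.isOpen⟩, ⟨s, W.2, rfl⟩⟩ ?_
    exact (IsHomeomorph.topologicalKrullDim_eq _
      (hj.isEmbedding.homeomorphImage (W.1 : Set S)).isHomeomorph).ge

variable (k : Type u) [Field k] (X : Scheme.{u}) [X.Over (Spec (CommRingCat.of k))]
  [LocallyOfFiniteType (X ↘ Spec (CommRingCat.of k))]

/-- The local dimension of `X` at `x` is `dim O_{X,x} + trdeg_k κ(x)`. -/
theorem localDim_scheme (x : X) (a b : ℕ)
    (ha : @Algebra.trdeg k (X.residueField x) _ _ (Curv2.resAlgebra k X x) = a)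
    (hb : ringKrullDim (X.presheaf.stalk x) = b) :
    FlatMor.localDim X x = (a + b : ℕ) := by
  obtain ⟨U, hU, hxU, -⟩ :=
    exists_isAffineOpen_mem_and_subset (X := X) (x := x) (U := ⊤) (by simp)
  letI algA : Algebra k Γ(X, U) := (ResTrdeg.kToΓ k X U).toAlgebra
  haveI ftA : Algebra.FiniteType k Γ(X, U) := ResTrdeg.finiteType_kToΓ k X hU
  set P : PrimeSpectrum Γ(X, U) := hU.primeIdealOf ⟨x, hxU⟩ with hP
  have hjP : hU.fromSpec P = x := hU.fromSpec_primeIdealOf ⟨x, hxU⟩
  have h1 : FlatMor.localDim (PrimeSpectrum Γ(X, U)) P = FlatMor.localDim X x := by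
    rw [← hjP]
    exact localDim_eq_of_isOpenEmbedding (fun q : PrimeSpectrum Γ(X, U) => hU.fromSpec q)
      hU.fromSpec.isOpenEmbedding P
  rw [← h1, localDim_eq k Γ(X, U) P]
  obtain ⟨n, hn1, hn2, -⟩ := ResTrdeg.exists_nat_trdeg_residueField k X hU ⟨x, hxU⟩
  have hna : n = a := by
    rw [ha] at hn1
    exact_mod_cast hn1.symm
  subst hna
  have h2 : ((Order.coheight P : ℕ∞) : WithBot ℕ∞) = (n : WithBot ℕ∞) := by
    rw [← AffChain.ringKrullDim_quotient_eq_coheight P]
    exact hn2
  have h3 : ((Order.height P : ℕ∞) : WithBot ℕ∞) = (b : WithBot ℕ∞) := by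
    rw [← hb, CodimPre.stalk_dim_eq_height hU x hxU]
    exact (congrArg _ (PrimeSpectrum.height_eq_orderHeight P)).symm
  rw [WithBot.coe_add, h2, h3]
  push_cast
  exact add_comm _ _

end Groth.Agent.Lib.Helper24.LocalDim
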