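import Mathlib
import Groth.Agent.Lib.Helper24.LocalDim.Core
import Groth.Agent.Lib.Helper7.ClosedPointDim

/-!
# S2141: local dimension of `Spec S` at `p` is `dim S_p + trdeg κ(p)` (helper24)
-/

set_option autoImplicit false
set_option linter.style.haveILetI false
universe u

namespace Groth.Agent.Lib.Helper24.LocalDim

open TopologicalSpace Groth.Agent.Lib.Helper7

theorem main2141 {k S : Type u} [Field k] [CommRing S] [Algebra k S] [Algebra.FiniteType k S]
    (p : Ideal S) [p.IsPrime] (r : ℕ) (hr : Algebra.trdeg k p.ResidueField = r) :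
    FlatMor.localDim (PrimeSpectrum S) ⟨p, inferInstance⟩ =
      ringKrullDim (Localization.AtPrime p) + (r : WithBot ℕ∞) := by
  rw [localDim_eq k S ⟨p, inferInstance⟩]
  obtain ⟨n, hn1, hn2, -⟩ := ClosedPtDim.exists_nat_trdeg_eq k (S ⧸ p) p.ResidueField
    (Ideal.injective_algebraMap_quotient_residueField p)
  have hnr : n = r := by
    rw [hr] at hn1
    exact_mod_cast hn1.symm
  subst hnr
  have h1 : ((Order.coheight (⟨p, inferInstance⟩ : PrimeSpectrum S) : ℕ∞) : WithBot ℕ∞) =
      (n : WithBot ℕ∞) := by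
    rw [← AffChain.ringKrullDim_quotient_eq_coheight (⟨p, inferInstance⟩ : PrimeSpectrum S)]
    exact hn2
  have h2 : ringKrullDim (Localization.AtPrime p) =
      ((Order.height (⟨p, inferInstance⟩ : PrimeSpectrum S) : ℕ∞) : WithBot ℕ∞) := by
    rw [IsLocalization.AtPrime.ringKrullDim_eq_height p (Localization.AtPrime p)]
    exact congrArg _ (PrimeSpectrum.height_eq_orderHeight (⟨p, inferInstance⟩ : PrimeSpectrum S))
  rw [h2, WithBot.coe_add, h1]

end Groth.Agent.Lib.Helper24.LocalDim
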